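import Cfsg.Agent.H45.Uni.Transfer

/-!
# Theorem (U), abstract part, all positive roots (any characteristic, twisted groups included)

The same as `H45.Uni.Q.Abs`, but with the root elements of all positive roots and the commutator relations
instead of the axiom `pair`: `DatR ι B k G`.

* `DatR.dens` : a function in `L` which is zero on `U⁻ T U` is zero.
-/

set_option autoImplicit false
set_option linter.unusedSectionVars false

namespace Cfsg.Agent.H203.UR

open Polynomial Finset Cfsg.Agent.H45.Uni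

/-- the data: `sr` the simple roots, `x` the root elements of ALL positive roots -/
structure DatR (ι B k G : Type*) [Field k] [Group G] where
  sr : ι → B
  x : B → k → G
  y : ι → k → G
  T : Subgroup G
  δ : kˣ → G
  c : G → k
  wt : ℤ
  N : ℕ
  M : ℕ
  d : B → ℕ
  qq : B → ℕ
  d_pos : ∀ b, 0 < d b
  x_add : ∀ b s t, x b (s + t) = x b s * x b t
  y_add : ∀ i s t, y i (s + t) = y i s * y i t
  δ_mul : ∀ s t, δ (s * t) = δ s * δ t
  δ_mem : ∀ s, δ s ∈ T
  c_one : c 1 = 1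
  c_x : ∀ g b s, c (g * x b s) = c g
  c_y : ∀ g i s, c (y i s * g) = c g
  c_T : ∀ t ∈ T, ∀ g, c (t * g) = c t * c g
  c_δ : ∀ g s, c (g * δ s) = ((s ^ wt : kˣ) : k) * c g
  δ_x : ∀ s b a, δ s * x b a = x b ((s : k) ^ d b * a) * δ s
  T_x : ∀ t ∈ T, ∀ i, ∃ u : k, ∀ a, x (sr i) a * t = t * x (sr i) (u * a)
  T_y : ∀ t ∈ T, ∀ i, ∃ u : k, ∀ a, t * y i a = y i (u * a) * t
  comm : ∀ i j a s, i ≠ j → x (sr i) a * y j s = y j s * x (sr i) a
  rank : ∀ i a s, 1 + a * s ≠ 0 →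
    ∃ t ∈ T, x (sr i) a * y i s = y i (s / (1 + a * s)) * t * x (sr i) (a / (1 + a * s))
  gen : Subgroup.closure {g | ∃ i s, g = x (sr i) s ∨ g = y i s} = ⊤
  pol_x : ∀ b g h, ∃ P : k[X], P.natDegree ≤ N ∧ ∀ s, c (g * x b s * h) = P.eval s
  pol_y : ∀ i g h, ∃ P : k[X], ∀ s, c (g * y i s * h) = P.eval s
  pol_δ : ∀ g h, ∃ P : k[X], P.natDegree ≤ N ∧ ∀ s : kˣ, (s : k) ^ M * c (g * δ s * h) = P.eval (s : k)
  deg : ∀ i g, ∃ P : k[X], P.natDegree < qq (sr i) ∧ ∀ s, c (x (sr i) s * g) = P.eval s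
  crel : ∀ i b, ∃ l : List (B × k × ℕ × ℕ), (∀ z ∈ l, 0 < z.2.2.2 ∧ qq b ≤ z.2.2.2 * qq z.1) ∧
    ∀ s t, x (sr i) (-s) * x b t * x (sr i) s = (l.map fun z => x z.1 (z.2.1 * s ^ z.2.2.1 * t ^ z.2.2.2)).prod

namespace DatR

variable {ι B k G : Type*} [Field k] [Group G] (D : DatR ι B k G)

/-- the span of the right translates of `c` -/
def L : Submodule k (G → k) := Submodule.span k (Set.range fun h => RR h D.c)

theorem c_mem : D.c ∈ D.L := Submodule.subset_span ⟨1, RR_one _⟩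

theorem RR_mem (h : G) {F : G → k} (hF : F ∈ D.L) : RR h F ∈ D.L := by
  unfold L at hF ⊢
  induction hF using Submodule.span_induction with
  | mem F hF =>
    obtain ⟨h', rfl⟩ := hF
    refine Submodule.subset_span ⟨h * h', ?_⟩
    exact RR_mul _ _ _
  | zero => rw [map_zero]; exact Submodule.zero_mem _
  | add F F' _ _ h1 h2 => rw [map_add]; exact Submodule.add_mem _ h1 h2
  | smul a F _ h1 => rw [map_smul]; exact Submodule.smul_mem _ _ h1

/-! ### transfer of the properties of `c` to `L` -/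

theorem L_y {F : G → k} (hF : F ∈ D.L) (i : ι) (s : k) (g : G) : F (D.y i s * g) = F g := by
  unfold L at hF
  induction hF using Submodule.span_induction with
  | mem F hF =>
    obtain ⟨h', rfl⟩ := hF
    show D.c (D.y i s * g * h') = D.c (g * h')
    rw [mul_assoc, D.c_y]
  | zero => rfl
  | add F F' _ _ h1 h2 => rw [Pi.add_apply, Pi.add_apply, h1, h2]
  | smul a F _ h1 => rw [Pi.smul_apply, Pi.smul_apply, h1]

theorem L_T {F : G → k} (hF : F ∈ D.L) {t : G} (ht : t ∈ D.T) (g : G) : F (t * g) = D.c t * F g := by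
  unfold L at hF
  induction hF using Submodule.span_induction with
  | mem F hF =>
    obtain ⟨h', rfl⟩ := hF
    show D.c (t * g * h') = D.c t * D.c (g * h')
    rw [mul_assoc, D.c_T t ht]
  | zero => simp
  | add F F' _ _ h1 h2 => rw [Pi.add_apply, Pi.add_apply, h1, h2, mul_add]
  | smul a F _ h1 => rw [Pi.smul_apply, Pi.smul_apply, h1, smul_eq_mul, smul_eq_mul]; ring

theorem L_pol_x {F : G → k} (hF : F ∈ D.L) (i : B) (g : G) :
    ∃ P : k[X], P.natDegree ≤ D.N ∧ ∀ s, F (g * D.x i s) = P.eval s := by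
  unfold L at hF
  induction hF using Submodule.span_induction with
  | mem F hF =>
    obtain ⟨h', rfl⟩ := hF
    exact D.pol_x i g h'
  | zero => exact ⟨0, by simp, fun s => by simp⟩
  | add F F' _ _ h1 h2 =>
    obtain ⟨P, h1, h1'⟩ := h1
    obtain ⟨P', h2, h2'⟩ := h2
    exact ⟨P + P', (natDegree_add_le _ _).trans (max_le h1 h2), fun s => by
      rw [Pi.add_apply, h1', h2', eval_add]⟩
  | smul a F _ h1 =>
    obtain ⟨P, h1, h1'⟩ := h1
    exact ⟨C a * P, (natDegree_C_mul_le _ _).trans h1, fun s => by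
      rw [Pi.smul_apply, h1', eval_mul, eval_C, smul_eq_mul]⟩

theorem L_pol_y {F : G → k} (hF : F ∈ D.L) (i : ι) (g : G) :
    ∃ P : k[X], ∀ s, F (g * D.y i s) = P.eval s := by
  unfold L at hF
  induction hF using Submodule.span_induction with
  | mem F hF =>
    obtain ⟨h', rfl⟩ := hF
    exact D.pol_y i g h'
  | zero => exact ⟨0, fun s => by simp⟩
  | add F F' _ _ h1 h2 =>
    obtain ⟨P, h1'⟩ := h1
    obtain ⟨P', h2'⟩ := h2
    exact ⟨P + P', fun s => by rw [Pi.add_apply, h1', h2', eval_add]⟩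
  | smul a F _ h1 =>
    obtain ⟨P, h1'⟩ := h1
    exact ⟨C a * P, fun s => by rw [Pi.smul_apply, h1', eval_mul, eval_C, smul_eq_mul]⟩

theorem L_pol_δ {F : G → k} (hF : F ∈ D.L) (g : G) :
    ∃ P : k[X], P.natDegree ≤ D.N ∧ ∀ s : kˣ, (s : k) ^ D.M * F (g * D.δ s) = P.eval (s : k) := by
  unfold L at hF
  induction hF using Submodule.span_induction with
  | mem F hF =>
    obtain ⟨h', rfl⟩ := hF
    exact D.pol_δ g h'
  | zero => exact ⟨0, by simp, fun s => by simp⟩
  | add F F' _ _ h1 h2 =>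
    obtain ⟨P, h1, h1'⟩ := h1
    obtain ⟨P', h2, h2'⟩ := h2
    exact ⟨P + P', (natDegree_add_le _ _).trans (max_le h1 h2), fun s => by
      rw [Pi.add_apply, mul_add, h1', h2', eval_add]⟩
  | smul a F _ h1 =>
    obtain ⟨P, h1, h1'⟩ := h1
    exact ⟨C a * P, (natDegree_C_mul_le _ _).trans h1, fun s => by
      rw [Pi.smul_apply, eval_mul, ← h1', eval_C, smul_eq_mul]; ring⟩

theorem L_deg {F : G → k} (hF : F ∈ D.L) (i : ι) (hp : 0 < D.qq (D.sr i)) :
    ∃ P : k[X], P.natDegree < D.qq (D.sr i) ∧ ∀ s, F (D.x (D.sr i) s) = P.eval s := by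
  unfold L at hF
  induction hF using Submodule.span_induction with
  | mem F hF =>
    obtain ⟨h', rfl⟩ := hF
    exact D.deg i h'
  | zero => exact ⟨0, by simpa using hp, fun s => by simp⟩
  | add F F' _ _ h1 h2 =>
    obtain ⟨P, h1, h1'⟩ := h1
    obtain ⟨P', h2, h2'⟩ := h2
    exact ⟨P + P', (natDegree_add_le _ _).trans_lt (max_lt h1 h2), fun s => by
      rw [Pi.add_apply, h1', h2', eval_add]⟩
  | smul a F _ h1 =>
    obtain ⟨P, h1, h1'⟩ := h1
    exact ⟨C a * P, (natDegree_C_mul_le _ _).trans_lt h1, fun s => by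
      rw [Pi.smul_apply, h1', eval_mul, eval_C, smul_eq_mul]⟩

/-! ### density of the big cell -/

/-- `U⁺` -/
def U : Subgroup G := Subgroup.closure {g | ∃ i s, g = D.x (D.sr i) s}
/-- `U⁻` -/
def Um : Subgroup G := Subgroup.closure {g | ∃ i s, g = D.y i s}

theorem x_mem_U (i : ι) (s : k) : D.x (D.sr i) s ∈ D.U := Subgroup.subset_closure ⟨i, s, rfl⟩
theorem y_mem_Um (i : ι) (s : k) : D.y i s ∈ D.Um := Subgroup.subset_closure ⟨i, s, rfl⟩

theorem x_zero (i : B) : D.x i 0 = 1 := by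
  have h := D.x_add i 0 0
  rw [add_zero] at h
  exact (mul_eq_left.1 h.symm)

theorem x_neg (i : B) (s : k) : D.x i (-s) = (D.x i s)⁻¹ := by
  rw [eq_inv_iff_mul_eq_one, ← D.x_add, neg_add_cancel, x_zero]

theorem y_zero (i : ι) : D.y i 0 = 1 := by
  have h := D.y_add i 0 0
  rw [add_zero] at h
  exact (mul_eq_left.1 h.symm)

theorem y_neg (i : ι) (s : k) : D.y i (-s) = (D.y i s)⁻¹ := by
  rw [eq_inv_iff_mul_eq_one, ← D.y_add, neg_add_cancel, y_zero]

theorem L_Um {F : G → k} (hF : F ∈ D.L) {u : G} (hu : u ∈ D.Um) (g : G) : F (u * g) = F g := by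
  induction hu using Subgroup.closure_induction generalizing g with
  | mem u hu => obtain ⟨i, s, rfl⟩ := hu; exact D.L_y hF i s g
  | one => rw [one_mul]
  | mul u v _ _ h1 h2 => rw [mul_assoc, h1, h2]
  | inv u _ h1 => rw [← h1 (u⁻¹ * g), mul_inv_cancel_left]

/-- the move of `y i s` through an element of `U⁺` -/
theorem move {u : G} (hu : u ∈ D.U) (i : ι) : ∃ (b : k) (B : Finset k), ∀ s, s ∉ B →
    1 + b * s ≠ 0 ∧ ∃ t ∈ D.T, ∃ u' ∈ D.U, u * D.y i s = D.y i (s / (1 + b * s)) * t * u' := by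
  classical
  have key : ∀ (j : ι) (a : k) (u : G), (∃ (b : k) (B : Finset k), ∀ s, s ∉ B →
      1 + b * s ≠ 0 ∧ ∃ t ∈ D.T, ∃ u' ∈ D.U, u * D.y i s = D.y i (s / (1 + b * s)) * t * u') →
      (∃ (b : k) (B : Finset k), ∀ s, s ∉ B →
      1 + b * s ≠ 0 ∧ ∃ t ∈ D.T, ∃ u' ∈ D.U, D.x (D.sr j) a * u * D.y i s = D.y i (s / (1 + b * s)) * t * u') := by
    rintro j a u ⟨b, B, h⟩
    by_cases hji : j = i
    · subst hji
      refine ⟨a + b, insert (- (a + b)⁻¹) B, fun s hs => ?_⟩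
      rw [Finset.mem_insert, not_or] at hs
      obtain ⟨h0, t, ht, u', hu', h1⟩ := h s hs.2
      have h2 : 1 + (a + b) * s ≠ 0 := by
        intro h3
        have hab : a + b ≠ 0 := by rintro h4; rw [h4] at h3; simp at h3
        apply hs.1
        field_simp
        linear_combination h3
      refine ⟨h2, ?_⟩
      have h3 : 1 + a * (s / (1 + b * s)) = (1 + (a + b) * s) / (1 + b * s) := by
        rw [eq_div_iff h0, add_mul, mul_assoc a, div_mul_cancel₀ _ h0]; ring
      have h4 : 1 + a * (s / (1 + b * s)) ≠ 0 := by rw [h3]; exact div_ne_zero h2 h0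
      obtain ⟨t', ht', h5⟩ := D.rank j a _ h4
      obtain ⟨v, hv⟩ := D.T_x t ht j
      refine ⟨t' * t, D.T.mul_mem ht' ht, D.x (D.sr j) (v * (a / (1 + a * (s / (1 + b * s))))) * u',
        D.U.mul_mem (D.x_mem_U _ _) hu', ?_⟩
      rw [mul_assoc, h1, ← mul_assoc, ← mul_assoc, h5, mul_assoc _ _ t, hv, h3]
      have h6 : s / (1 + b * s) / ((1 + (a + b) * s) / (1 + b * s)) = s / (1 + (a + b) * s) :=
        div_div_div_cancel_right₀ h0 _ _
      rw [h6]
      simp only [mul_assoc]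
    · refine ⟨b, B, fun s hs => ?_⟩
      obtain ⟨h0, t, ht, u', hu', h1⟩ := h s hs
      obtain ⟨v, hv⟩ := D.T_x t ht j
      refine ⟨h0, t, ht, D.x (D.sr j) (v * a) * u', D.U.mul_mem (D.x_mem_U _ _) hu', ?_⟩
      rw [mul_assoc, h1, ← mul_assoc, ← mul_assoc, D.comm _ _ _ _ hji, mul_assoc _ _ t, hv]
      simp only [mul_assoc]
  unfold U at hu
  induction hu using Subgroup.closure_induction_left with
  | one =>
    exact ⟨0, ∅, fun s _ => ⟨by simp, 1, D.T.one_mem, 1, D.U.one_mem, by simp⟩⟩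
  | mul_left u hu v _ h =>
    obtain ⟨j, a, rfl⟩ := hu
    exact key j a v h
  | inv_mul_cancel u hu v _ h =>
    obtain ⟨j, a, rfl⟩ := hu
    rw [← D.x_neg]
    exact key j (-a) v h

variable [Infinite k]

theorem eq_zero_of_cofin {P : k[X]} {B : Finset k} (h : ∀ s, s ∉ B → P.eval s = 0) : P = 0 := by
  apply Polynomial.eq_zero_of_infinite_isRoot
  apply Set.Infinite.mono (s := ((B : Set k)ᶜ))
  · intro s hs
    exact h s (by simpa using hs)
  · exact B.finite_toSet.infinite_compl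

/-- **density**: a function in `L` which is zero on `U⁻ T U` is zero -/
theorem dens {F : G → k} (hF : F ∈ D.L) (h : ∀ t ∈ D.T, ∀ u ∈ D.U, F (t * u) = 0) : F = 0 := by
  have key : ∀ g : G, ∀ F ∈ D.L, (∀ t ∈ D.T, ∀ u ∈ D.U, F (t * u) = 0) →
      ∀ t ∈ D.T, ∀ u ∈ D.U, F (t * u * g) = 0 := by
    intro g
    have hg : g ∈ Subgroup.closure {g | ∃ i s, g = D.x (D.sr i) s ∨ g = D.y i s} := by rw [D.gen]; trivial
    have hx : ∀ i s, ∀ F ∈ D.L, (∀ t ∈ D.T, ∀ u ∈ D.U, F (t * u) = 0) →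
      ∀ t ∈ D.T, ∀ u ∈ D.U, F (t * u * D.x (D.sr i) s) = 0 := by
      intro i s F hF h t ht u hu
      rw [mul_assoc]
      exact h t ht _ (D.U.mul_mem hu (D.x_mem_U i s))
    have hy : ∀ i s, ∀ F ∈ D.L, (∀ t ∈ D.T, ∀ u ∈ D.U, F (t * u) = 0) →
      ∀ t ∈ D.T, ∀ u ∈ D.U, F (t * u * D.y i s) = 0 := by
      intro i s F hF h t ht u hu
      obtain ⟨P, hP⟩ := D.L_pol_y hF i (t * u)
      obtain ⟨b, B, hB⟩ := D.move hu i
      have hP0 : P = 0 := by
        apply eq_zero_of_cofin (B := B)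
        intro s hs
        obtain ⟨-, t', ht', u', hu', h1⟩ := hB s hs
        obtain ⟨v, hv⟩ := D.T_y t ht i
        rw [← hP, mul_assoc, h1, ← mul_assoc, ← mul_assoc, hv, mul_assoc, mul_assoc, D.L_y hF,
          ← mul_assoc]
        exact h _ (D.T.mul_mem ht ht') u' hu'
      rw [hP, hP0, eval_zero]
    induction hg using Subgroup.closure_induction'' with
    | mem g hg =>
      obtain ⟨i, s, rfl | rfl⟩ := hg
      · exact hx i s
      · exact hy i s
    | inv_mem g hg =>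
      obtain ⟨i, s, rfl | rfl⟩ := hg
      · rw [← D.x_neg]; exact hx i (-s)
      · rw [← D.y_neg]; exact hy i (-s)
    | one => intro F hF h t ht u hu; rw [mul_one]; exact h t ht u hu
    | mul g g' _ _ h1 h2 =>
      intro F hF h t ht u hu
      have h3 := h1 (RR g' F) (D.RR_mem _ hF) (fun t ht u hu => h2 F hF h t ht u hu) t ht u hu
      rw [RR_apply, mul_assoc] at h3
      exact h3
  funext g
  have h1 := key g F hF h 1 D.T.one_mem 1 D.U.one_mem
  rw [mul_one, one_mul] at h1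
  exact h1

end DatR

end Cfsg.Agent.H203.UR
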