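import Cfsg.Agent.H203.U.Abs

/-!
# Theorem (U), abstract part, all positive roots: Curtis' lemma

* `DatR.K_le` : the functions in `L` killed by all `X b n`, `0 < n < qq b`, are the multiples of `c`;
* `DatR.fix_le` : the functions in `L` fixed by all `x b s`, `s ∈ F_q`, are the multiples of `c`.
-/

set_option autoImplicit false
set_option linter.unusedSectionVars false

namespace Cfsg.Agent.H203.UR

open Polynomial Finset Cfsg.Agent.H45.Uni

namespace DatR

variable {ι B k G : Type*} [Field k] [Group G] [Infinite k] (D : DatR ι B k G)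

theorem exists_nodes (k : Type*) [Field k] [Infinite k] (n : ℕ) : ∃ S : Finset k, S.card = n ∧ (0 : k) ∉ S := by
  have h1 : Set.Infinite ({(0 : k)}ᶜ : Set k) := (Set.finite_singleton (0 : k)).infinite_compl
  obtain ⟨S, hS, hc⟩ := h1.exists_subset_card_eq n
  exact ⟨S, hc, fun h => hS h rfl⟩

/-- nodes for the interpolation -/
noncomputable def nodes (k : Type*) [Field k] [Infinite k] (n : ℕ) : Finset k := (exists_nodes k n).choose

theorem nodes_card (n : ℕ) : (nodes k n).card = n := (exists_nodes k n).choose_spec.1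
theorem nodes_zero (n : ℕ) : (0 : k) ∉ nodes k n := (exists_nodes k n).choose_spec.2

/-- `X i n F` : the coefficient of `s ^ n` in `x i s F` -/
noncomputable def X (i : B) (n : ℕ) : (G → k) →ₗ[k] (G → k) :=
  op (nodes k (D.N + 1)) (fun _ => 1) (D.x i) n

open Classical in
/-- `δ`, as a function on `k` -/
noncomputable def dl (a : k) : G := if h : a ≠ 0 then D.δ (Units.mk0 a h) else 1

/-- the components for `δ` -/
noncomputable def H (n : ℕ) : (G → k) →ₗ[k] (G → k) :=
  op (nodes k (D.N + 1)) (fun a => a ^ D.M) D.dl n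

theorem pol_ext {P Q : k[X]} (h : ∀ s : kˣ, P.eval (s : k) = Q.eval (s : k)) : P = Q := by
  apply Polynomial.eq_of_infinite_eval_eq
  apply Set.Infinite.mono (s := ({(0 : k)}ᶜ : Set k))
  · intro s hs
    exact h (Units.mk0 s hs)
  · exact (Set.finite_singleton (0 : k)).infinite_compl

theorem X_apply {F : G → k} (hF : F ∈ D.L) (i : B) (n : ℕ) {g : G} {P : k[X]}
    (h : ∀ s, F (g * D.x i s) = P.eval s) : D.X i n F g = P.coeff n := by
  obtain ⟨P', hP', h'⟩ := D.L_pol_x hF i g
  have : P = P' := pol_ext fun s => by rw [← h, ← h']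
  subst this
  refine op_apply ?_ fun a _ => ?_
  · rw [nodes_card]
    refine (degree_le_natDegree).trans_lt ?_
    exact_mod_cast Nat.lt_succ_of_le hP'
  · rw [one_mul, h]

theorem H_apply {F : G → k} (hF : F ∈ D.L) (n : ℕ) {g : G} {P : k[X]}
    (h : ∀ s : kˣ, (s : k) ^ D.M * F (g * D.δ s) = P.eval (s : k)) : D.H n F g = P.coeff n := by
  obtain ⟨P', hP', h'⟩ := D.L_pol_δ hF g
  have : P = P' := pol_ext fun s => by rw [← h, ← h']
  subst this
  refine op_apply ?_ fun a ha => ?_
  · rw [nodes_card]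
    refine (degree_le_natDegree).trans_lt ?_
    exact_mod_cast Nat.lt_succ_of_le hP'
  · have ha0 : a ≠ 0 := by rintro rfl; exact nodes_zero _ ha
    have h1 := h (Units.mk0 a ha0)
    rw [Units.val_mk0] at h1
    rw [← h1]
    unfold dl
    rw [dif_pos ha0]

theorem X_mem (i : B) (n : ℕ) {F : G → k} (hF : F ∈ D.L) : D.X i n F ∈ D.L :=
  op_mem (fun _ _ _ h => D.RR_mem _ h) n hF

theorem H_mem (n : ℕ) {F : G → k} (hF : F ∈ D.L) : D.H n F ∈ D.L :=
  op_mem (fun _ _ _ h => D.RR_mem _ h) n hF

theorem expand_x {F : G → k} (hF : F ∈ D.L) (i : B) (g : G) (s : k) :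
    F (g * D.x i s) = ∑ n ∈ range (D.N + 1), D.X i n F g * s ^ n := by
  obtain ⟨P, hP, h⟩ := D.L_pol_x hF i g
  rw [h, eval_eq_sum_range' (Nat.lt_succ_of_le hP)]
  exact Finset.sum_congr rfl fun n _ => by rw [D.X_apply hF i n h]

theorem expand_δ {F : G → k} (hF : F ∈ D.L) (g : G) (s : kˣ) :
    (s : k) ^ D.M * F (g * D.δ s) = ∑ n ∈ range (D.N + 1), D.H n F g * (s : k) ^ n := by
  obtain ⟨P, hP, h⟩ := D.L_pol_δ hF g
  rw [h, eval_eq_sum_range' (Nat.lt_succ_of_le hP)]
  exact Finset.sum_congr rfl fun n _ => by rw [D.H_apply hF n h]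

theorem X_zero {F : G → k} (hF : F ∈ D.L) (i : B) : D.X i 0 F = F := by
  funext g
  obtain ⟨P, hP, h⟩ := D.L_pol_x hF i g
  rw [D.X_apply hF i 0 h, coeff_zero_eq_eval_zero, ← h, D.x_zero, mul_one]

theorem δ_one : D.δ 1 = 1 := by
  have h := D.δ_mul 1 1
  rw [mul_one] at h
  exact (mul_eq_left.1 h.symm)

theorem sum_H {F : G → k} (hF : F ∈ D.L) : ∑ n ∈ range (D.N + 1), D.H n F = F := by
  funext g
  have h := D.expand_δ hF g 1
  rw [D.δ_one, mul_one, Units.val_one, one_pow, one_mul] at h
  rw [Finset.sum_apply, h]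
  exact Finset.sum_congr rfl fun n _ => by rw [one_pow, mul_one]

/-- homogeneous functions -/
def Hom (h : ℤ) (F : G → k) : Prop := ∀ (s : kˣ) (g : G), F (g * D.δ s) = ((s ^ h : kˣ) : k) * F g

theorem hom_H (n : ℕ) {F : G → k} (hF : F ∈ D.L) : D.Hom ((n : ℤ) - D.M) (D.H n F) := by
  intro s g
  obtain ⟨P, hP, h⟩ := D.L_pol_δ hF g
  have h2 : ∀ u : kˣ, (u : k) ^ D.M * F (g * D.δ s * D.δ u) =
      (C ((s : k)⁻¹ ^ D.M) * P.comp (C (s : k) * Polynomial.X)).eval (u : k) := by
    intro u
    have h1 := h (s * u)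
    rw [D.δ_mul, ← mul_assoc, Units.val_mul, mul_pow] at h1
    have hs : (s : k) ≠ 0 := s.ne_zero
    rw [eval_mul, eval_C, eval_comp, eval_mul, eval_C, eval_X, ← h1, inv_pow, mul_assoc ((s : k) ^ D.M),
      inv_mul_cancel_left₀ (pow_ne_zero _ hs)]
  rw [D.H_apply hF n h2, D.H_apply hF n h, coeff_C_mul, comp_C_mul_X_coeff]
  rw [zpow_sub, zpow_natCast, zpow_natCast, Units.val_mul, Units.val_pow_eq_pow_val,
    Units.val_inv_eq_inv_val, Units.val_pow_eq_pow_val, inv_pow]
  ring

theorem H_of_hom {h : ℤ} {F : G → k} (hF : F ∈ D.L) (hh : D.Hom h F) (n : ℕ) (hn : (n : ℤ) - D.M ≠ h) :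
    D.H n F = 0 := by
  funext g
  by_cases hg : F g = 0
  · have h2 : ∀ u : kˣ, (u : k) ^ D.M * F (g * D.δ u) = (0 : k[X]).eval (u : k) := by
      intro u
      rw [hh, hg, mul_zero, mul_zero, eval_zero]
    rw [D.H_apply hF n h2, coeff_zero]
    rfl
  obtain ⟨P, hP, h1⟩ := D.L_pol_δ hF g
  rw [D.H_apply hF n h1]
  -- `P (s) = s ^ (M + h) F g`
  have h2 : ∀ s : kˣ, P.eval (s : k) = ((s ^ (h + D.M) : kˣ) : k) * F g := by
    intro s
    rw [← h1, hh, zpow_add, Units.val_mul, zpow_natCast, Units.val_pow_eq_pow_val]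
    ring
  by_cases h3 : 0 ≤ h + D.M
  · obtain ⟨e, he⟩ := Int.eq_ofNat_of_zero_le h3
    have h4 : P = C (F g) * Polynomial.X ^ e := pol_ext fun s => by
      rw [h2, he, zpow_natCast, Units.val_pow_eq_pow_val, eval_mul, eval_C, eval_pow, eval_X]
      ring
    rw [h4, coeff_C_mul, coeff_X_pow, if_neg (by rintro rfl; exact hn (by omega)), mul_zero]
    rfl
  · -- negative exponent
    exfalso
    obtain ⟨e, he⟩ := Int.eq_ofNat_of_zero_le (show 0 ≤ -(h + D.M) by omega)
    have h4 : P * Polynomial.X ^ e = C (F g) := pol_ext fun s => by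
      rw [eval_mul, h2, eval_pow, eval_X, eval_C]
      have h5 : h + D.M = -(e : ℤ) := by omega
      rw [h5, zpow_neg, zpow_natCast, Units.val_inv_eq_inv_val, Units.val_pow_eq_pow_val]
      have hs : (s : k) ≠ 0 := s.ne_zero
      field_simp
    have h5 := congrArg (fun P : k[X] => P.coeff 0) h4
    simp only [coeff_C_zero, coeff_mul_X_pow'] at h5
    rw [if_neg (by omega)] at h5
    exact hg h5.symm

/-- nonzero homogeneous functions in `L` have degree `n - M` with `n ≤ N` -/
theorem hom_range {h : ℤ} {F : G → k} (hF : F ∈ D.L) (hh : D.Hom h F) (h0 : F ≠ 0) :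
    ∃ n ≤ D.N, h = (n : ℤ) - D.M := by
  by_contra hcon
  push Not at hcon
  apply h0
  rw [← D.sum_H hF]
  refine Finset.sum_eq_zero fun n hn => ?_
  exact D.H_of_hom hF hh n (fun h1 => hcon n (by rw [Finset.mem_range] at hn; omega) h1.symm)

theorem H_self {n : ℕ} {F : G → k} (hF : F ∈ D.L) (hh : D.Hom ((n : ℤ) - D.M) F) (hn : n ≤ D.N) :
    D.H n F = F := by
  conv_rhs => rw [← D.sum_H hF]
  rw [Finset.sum_eq_single n]
  · intro m _ hm
    exact D.H_of_hom hF hh m (by omega)
  · intro h1
    exact absurd (Finset.mem_range.2 (by omega)) h1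

theorem hom_X {h : ℤ} {F : G → k} (hF : F ∈ D.L) (hh : D.Hom h F) (i : B) (n : ℕ) :
    D.Hom (h + (D.d i * n : ℕ)) (D.X i n F) := by
  intro s g
  obtain ⟨P, hP, h1⟩ := D.L_pol_x hF i g
  have h2 : ∀ u : k, F (g * D.δ s * D.x i u) =
      (C ((s ^ h : kˣ) : k) * P.comp (C ((s : k) ^ D.d i) * Polynomial.X)).eval u := by
    intro u
    rw [mul_assoc, D.δ_x, ← mul_assoc, hh, h1, eval_mul, eval_C, eval_comp, eval_mul, eval_C, eval_X]
  rw [D.X_apply hF i n h2, D.X_apply hF i n h1, coeff_C_mul, comp_C_mul_X_coeff, zpow_add,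
    zpow_natCast, Units.val_mul, Units.val_pow_eq_pow_val, pow_mul]
  ring

/-! ### Curtis' lemma -/

/-- the functions killed by all `X b n`, `0 < n < qq b` -/
noncomputable def K : Submodule k (G → k) :=
  D.L ⊓ ⨅ b : B, ⨅ n : {n : ℕ // 0 < n ∧ n < D.qq b}, LinearMap.ker (D.X b n.1)

theorem mem_K {F : G → k} : F ∈ D.K ↔ F ∈ D.L ∧ ∀ b, ∀ n, 0 < n → n < D.qq b → D.X b n F = 0 := by
  unfold K
  rw [Submodule.mem_inf, Submodule.mem_iInf]
  refine and_congr_right fun _ => forall_congr' fun b => ?_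
  rw [Submodule.mem_iInf]
  exact ⟨fun h n h0 hn => h ⟨n, h0, hn⟩, fun h n => h n.1 n.2.1 n.2.2⟩

theorem K_X {F : G → k} (hF : F ∈ D.K) (b : B) {n : ℕ} (h0 : 0 < n) (hn : n < D.qq b) : D.X b n F = 0 :=
  (D.mem_K.1 hF).2 b n h0 hn

/-- the product of root elements belonging to a list -/
def lprod (l : List (B × k × ℕ)) (t : k) : G := (l.map fun z => D.x z.1 (z.2.1 * t ^ z.2.2)).prod

theorem lprod_nil (t : k) : D.lprod [] t = 1 := rfl

theorem lprod_append (l : List (B × k × ℕ)) (z : B × k × ℕ) (t : k) :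
    D.lprod (l ++ [z]) t = D.lprod l t * D.x z.1 (z.2.1 * t ^ z.2.2) := by
  unfold lprod
  rw [List.map_append, List.prod_append]
  simp

theorem pol_lprod (l : List (B × k × ℕ)) : ∀ {F : G → k}, F ∈ D.L → ∀ g : G,
    ∃ P : k[X], ∀ t, F (g * D.lprod l t) = P.eval t := by
  induction l using List.reverseRecOn with
  | nil =>
    intro F hF g
    exact ⟨C (F g), fun t => by rw [lprod_nil, mul_one, eval_C]⟩
  | append_singleton l z ih =>
    intro F hF g
    choose R hR using fun n : ℕ => ih (D.X_mem z.1 n hF) g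
    refine ⟨∑ n ∈ range (D.N + 1), R n * (C z.2.1 * Polynomial.X ^ z.2.2) ^ n, fun t => ?_⟩
    rw [lprod_append, ← mul_assoc, D.expand_x hF, eval_finsetSum]
    refine Finset.sum_congr rfl fun n _ => ?_
    rw [eval_mul, eval_pow, eval_mul, eval_C, eval_pow, eval_X, hR]

theorem K_lprod {Q : ℕ} (l : List (B × k × ℕ)) (hl : ∀ z ∈ l, 0 < z.2.2 ∧ Q ≤ z.2.2 * D.qq z.1) {F : G → k} (hF : F ∈ D.K) (g : G) :
    ∃ P : k[X], (∀ n, 0 < n → n < Q → P.coeff n = 0) ∧ ∀ t, F (g * D.lprod l t) = P.eval t := by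
  have hFL := (D.mem_K.1 hF).1
  induction l using List.reverseRecOn with
  | nil =>
    exact ⟨C (F g), fun n hn _ => coeff_C_of_ne_zero hn.ne', fun t => by rw [lprod_nil, mul_one, eval_C]⟩
  | append_singleton l z ih =>
    obtain ⟨P, hP0, hP⟩ := ih (fun z hz => hl z (List.mem_append_left _ hz))
    choose R hR using fun n : ℕ => D.pol_lprod l (D.X_mem z.1 n hFL) g
    obtain ⟨hz0, hzQ⟩ := hl z (List.mem_append_right _ (List.mem_singleton_self z))
    refine ⟨P + ∑ n ∈ range D.N, (if D.qq z.1 ≤ n + 1 then R (n + 1) * C (z.2.1 ^ (n + 1)) * Polynomial.X ^ (z.2.2 * (n + 1)) else 0),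
      fun m hm hmQ => ?_, fun t => ?_⟩
    · rw [coeff_add, hP0 m hm hmQ, zero_add, finsetSum_coeff]
      refine Finset.sum_eq_zero fun n _ => ?_
      by_cases hn : D.qq z.1 ≤ n + 1
      · rw [if_pos hn, coeff_mul_X_pow', if_neg]
        have := Nat.mul_le_mul_left z.2.2 hn
        omega
      · rw [if_neg hn, coeff_zero]
    · rw [lprod_append, ← mul_assoc, D.expand_x hFL, Finset.sum_range_succ', pow_zero, mul_one, D.X_zero hFL, hP, add_comm,
        eval_add, eval_finsetSum]
      congr 1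
      refine Finset.sum_congr rfl fun n _ => ?_
      by_cases hn : D.qq z.1 ≤ n + 1
      · rw [if_pos hn, eval_mul, eval_mul, eval_C, eval_pow, eval_X, hR, mul_pow, pow_mul, mul_assoc]
      · rw [if_neg hn, eval_zero, D.K_X hF z.1 (Nat.succ_pos n) (by omega)]
        simp

theorem K_RR_x {F : G → k} (hF : F ∈ D.K) (i : ι) (s : k) : RR (D.x (D.sr i) s) F ∈ D.K := by
  have hFL := (D.mem_K.1 hF).1
  rw [mem_K]
  refine ⟨D.RR_mem _ hFL, fun b n hn hnb => ?_⟩
  funext g
  obtain ⟨l, hl, hlp⟩ := D.crel i b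
  obtain ⟨P, hP0, hP⟩ := D.K_lprod (Q := D.qq b) (l.map fun z => (z.1, z.2.1 * s ^ z.2.2.1, z.2.2.2))
    (by
      intro z hz
      obtain ⟨z', hz', rfl⟩ := List.mem_map.1 hz
      exact hl z' hz') hF (g * D.x (D.sr i) s)
  have h2 : ∀ t : k, (RR (D.x (D.sr i) s) F) (g * D.x b t) = P.eval t := by
    intro t
    rw [← hP, RR_apply]
    congr 1
    have h3 := hlp s t
    have h4 : D.lprod (l.map fun z => (z.1, z.2.1 * s ^ z.2.2.1, z.2.2.2)) t =
        D.x (D.sr i) (-s) * D.x b t * D.x (D.sr i) s := by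
      rw [h3]
      unfold lprod
      rw [List.map_map]
      rfl
    rw [h4, D.x_neg]
    group
  rw [D.X_apply (D.RR_mem _ hFL) b n h2, hP0 n hn hnb]
  rfl

theorem K_X_mem {F : G → k} (hF : F ∈ D.K) (i : ι) (n : ℕ) : D.X (D.sr i) n F ∈ D.K :=
  op_mem (fun _ _ _ h => D.K_RR_x h _ _) n hF

theorem K_RR_δ {F : G → k} (hF : F ∈ D.K) (s : kˣ) : RR (D.δ s) F ∈ D.K := by
  have hFL := (D.mem_K.1 hF).1
  rw [mem_K]
  refine ⟨D.RR_mem _ hFL, fun i n hn hnb => ?_⟩
  funext g
  obtain ⟨P, hP, h⟩ := D.L_pol_x hFL i (g * D.δ s)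
  have h2 : ∀ u : k, (RR (D.δ s) F) (g * D.x i u) = (P.comp (C (((s : k) ^ D.d i)⁻¹) * Polynomial.X)).eval u := by
    intro u
    rw [RR_apply, eval_comp, eval_mul, eval_C, eval_X, ← h, mul_assoc, mul_assoc, D.δ_x, ← mul_assoc ((s : k) ^ D.d i),
      mul_inv_cancel₀ (pow_ne_zero _ s.ne_zero), one_mul]
  rw [D.X_apply (D.RR_mem _ hFL) i n h2, comp_C_mul_X_coeff, ← D.X_apply hFL i n h,
    (D.mem_K.1 hF).2 i n hn hnb]
  simp

theorem K_H_mem {F : G → k} (hF : F ∈ D.K) (n : ℕ) : D.H n F ∈ D.K := by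
  classical
  refine op_mem (fun a ha _ h => ?_) n hF
  have ha0 : a ≠ 0 := by rintro rfl; exact nodes_zero _ ha
  unfold dl
  rw [dif_pos ha0]
  exact D.K_RR_δ h _

/-- a function in `L` fixed by `U⁺` is a multiple of `c` -/
theorem top {F : G → k} (hF : F ∈ D.L) (h : ∀ i s g, F (g * D.x (D.sr i) s) = F g) : F = F 1 • D.c := by
  have hU : ∀ {F : G → k}, (∀ i s g, F (g * D.x (D.sr i) s) = F g) → ∀ u ∈ D.U, ∀ g, F (g * u) = F g := by
    intro F h u hu
    induction hu using Subgroup.closure_induction with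
    | mem u hu => obtain ⟨i, s, rfl⟩ := hu; exact h i s
    | one => intro g; rw [mul_one]
    | mul u v _ _ h1 h2 => intro g; rw [← mul_assoc, h2, h1]
    | inv u _ h1 => intro g; rw [← h1 (g * u⁻¹), inv_mul_cancel_right]
  have h1 : F - F 1 • D.c = 0 := by
    apply D.dens (D.L.sub_mem hF (D.L.smul_mem _ D.c_mem))
    intro t ht u hu
    have h2 := hU h u hu t
    have h3 := hU (fun i s g => D.c_x g (D.sr i) s) u hu t
    rw [Pi.sub_apply, Pi.smul_apply, h2, h3]
    have h4 := D.L_T hF ht 1
    rw [mul_one] at h4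
    rw [h4, smul_eq_mul]
    ring
  exact sub_eq_zero.1 h1

/-- **Curtis' lemma**, homogeneous form -/
theorem K_hom {h : ℤ} {F : G → k} (hF : F ∈ D.K) (hh : D.Hom h F) : F = F 1 • D.c := by
  -- downward induction on `h`
  have key : ∀ (d : ℕ) (h : ℤ) (F : G → k), F ∈ D.K → D.Hom h F → (D.N : ℤ) - D.M < h + d → F = F 1 • D.c := by
    intro d
    induction d with
    | zero =>
      intro h F hF hh hd
      have hFL := (D.mem_K.1 hF).1
      by_cases h0 : F = 0
      · rw [h0]; simp
      · obtain ⟨n, hn, h1⟩ := D.hom_range hFL hh h0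
        push_cast at hd
        omega
    | succ d ih =>
      intro h F hF hh hd
      have hFL := (D.mem_K.1 hF).1
      apply D.top hFL
      intro i s g
      -- the coefficients
      have h1 : ∀ n, 0 < n → D.X (D.sr i) n F = (D.X (D.sr i) n F) 1 • D.c := by
        intro n hn
        apply ih (h + (D.d (D.sr i) * n : ℕ)) (D.X (D.sr i) n F) (D.K_X_mem hF i n) (D.hom_X hFL hh (D.sr i) n)
        have h5 : 1 ≤ D.d (D.sr i) * n := Nat.mul_pos (D.d_pos _) hn
        push_cast at hd
        omega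
      have h2 : ∀ n, 0 < n → D.X (D.sr i) n F 1 = 0 := by
        intro n hn
        by_cases hnp : n < D.qq (D.sr i)
        · rw [D.K_X hF (D.sr i) hn hnp]; rfl
        · obtain ⟨P', hP', -⟩ := D.deg i 1
          obtain ⟨P, hP, h3⟩ := D.L_deg hFL i (lt_of_le_of_lt (Nat.zero_le _) hP')
          have h4 : ∀ s, F (1 * D.x (D.sr i) s) = P.eval s := fun s => by rw [one_mul, h3]
          rw [D.X_apply hFL (D.sr i) n h4]
          exact coeff_eq_zero_of_natDegree_lt (by omega)
      rw [D.expand_x hFL, Finset.sum_range_succ', Finset.sum_eq_zero, zero_add, pow_zero, mul_one, D.X_zero hFL]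
      intro n _
      rw [h1 (n + 1) (Nat.succ_pos n), h2 (n + 1) (Nat.succ_pos n)]
      simp
  exact key ((D.N : ℤ) - D.M - h + 1).toNat h F hF hh (by omega)

/-- **Curtis' lemma** -/
theorem K_le {F : G → k} (hF : F ∈ D.K) : ∃ a : k, F = a • D.c := by
  have hFL := (D.mem_K.1 hF).1
  refine ⟨∑ n ∈ range (D.N + 1), D.H n F 1, ?_⟩
  conv_lhs => rw [← D.sum_H hFL]
  rw [Finset.sum_smul]
  exact Finset.sum_congr rfl fun n _ => D.K_hom (D.K_H_mem hF n) (D.hom_H n hFL)

/-! ### functions fixed by the `x i s`, `s ∈ F_q` -/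

theorem low {Fq : Type*} [Field Fq] [Fintype Fq] [Algebra Fq k] (hq : ∀ b, D.qq b ≤ Fintype.card Fq) {F : G → k}
    (hF : F ∈ D.L) (h1 : ∀ i (s : Fq) g, F (g * D.x i (algebraMap Fq k s)) = F g) {n : ℕ}
    (hlow : ∀ m < n, D.H m F = 0) : D.H n F ∈ D.K := by
  rw [mem_K]
  refine ⟨D.H_mem n hF, fun i d hpl0 hdq => ?_⟩
  have hpl : d < Fintype.card Fq := lt_of_lt_of_le hdq (hq i)
  funext g
  have hs : ∀ (s : Fq) (u : kˣ), ∀ g, F (g * D.x i ((u : k) ^ (D.d i) * algebraMap Fq k s) * D.δ u) = F (g * D.δ u) := by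
    intro s u g
    rw [mul_assoc, ← D.δ_x u i (algebraMap Fq k s), ← mul_assoc, h1]
  -- polynomial identity
  choose r hrN hr using fun m : ℕ => D.L_pol_x (D.H_mem m hF) i g
  have hD := D.d_pos i
  have h3 : ∀ s : Fq, (∑ m ∈ range (D.N + 1), (expand k (D.d i) ((r m).comp (C (algebraMap Fq k s) * Polynomial.X))) *
      Polynomial.X ^ m : k[X]) =
      ∑ m ∈ range (D.N + 1), C (D.H m F g) * Polynomial.X ^ m := fun s => pol_ext fun u => by
    rw [eval_finsetSum, eval_finsetSum]
    have h4 := D.expand_δ hF (g * D.x i ((u : k) ^ (D.d i) * algebraMap Fq k s)) u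
    have h5 := D.expand_δ hF g u
    rw [hs] at h4
    rw [h5] at h4
    simp only [eval_mul, eval_C, eval_pow, eval_X, eval_comp, expand_eval]
    rw [h4]
    exact Finset.sum_congr rfl fun m _ => by rw [hr, mul_comm ((u : k) ^ (D.d i))]
  by_cases hn : n ≤ D.N
  · have hr0 : ∀ m < n, r m = 0 := by
      intro m hm
      apply pol_ext
      intro s
      rw [← hr, hlow m hm]
      simp
    have hc0 : ∀ m, (r m).coeff 0 = D.H m F g := by
      intro m
      rw [← D.X_apply (D.H_mem m hF) i 0 (hr m), D.X_zero (D.H_mem m hF)]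
    -- the coefficient of `X ^ (n + (D.d i) * p ^ l)`
    let P : k[X] := ∑ j ∈ range d, C (if n + (D.d i) * (d - (j + 1)) ≤ D.N then
      (r (n + (D.d i) * (d - (j + 1)))).coeff (j + 1) else 0) * Polynomial.X ^ (j + 1)
    have hP : ∀ s : Fq, P.eval (algebraMap Fq k s) = 0 := by
      intro s
      have h4 := congrArg (fun P : k[X] => P.coeff (n + (D.d i) * d)) (h3 s)
      simp only [finsetSum_coeff] at h4
      rw [Finset.sum_congr rfl (fun m _ => coeff_mul_X_pow' _ m (n + (D.d i) * d)),
        Finset.sum_congr rfl (fun m _ => by rw [coeff_C_mul, coeff_X_pow] :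
          ∀ m ∈ range (D.N + 1), (C (D.H m F g) * Polynomial.X ^ m : k[X]).coeff (n + (D.d i) * d) =
            D.H m F g * if n + (D.d i) * d = m then 1 else 0)] at h4
      simp only [coeff_expand hD, comp_C_mul_X_coeff] at h4
      -- rewrite the left side
      have h5 : ∀ m ∈ range (D.N + 1), (if m ≤ n + (D.d i) * d then (if (D.d i) ∣ n + (D.d i) * d - m then
          (r m).coeff ((n + (D.d i) * d - m) / D.d i) * (algebraMap Fq k s) ^ ((n + (D.d i) * d - m) / D.d i) else 0) else 0) =
          (∑ j ∈ range d, if m = n + (D.d i) * (d - (j + 1)) then (r m).coeff (j + 1) * (algebraMap Fq k s) ^ (j + 1) else 0) +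
            (D.H m F g * if n + (D.d i) * d = m then 1 else 0) := by
        intro m _
        have hjd : ∀ j < d, (D.d i) * (d - (j + 1)) + (D.d i) * (j + 1) = (D.d i) * d := by
          intro j hj
          rw [← Nat.mul_add]; congr 1; omega
        rcases lt_or_ge (n + (D.d i) * d) m with hm | hm
        · rw [if_neg (by omega), if_neg (by omega), mul_zero, add_zero, Finset.sum_eq_zero]
          intro j hj
          have := hjd j (Finset.mem_range.1 hj)
          rw [if_neg (by omega)]
        · rw [if_pos hm]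
          by_cases hm2 : n + (D.d i) * d = m
          · subst hm2
            rw [if_pos rfl, Nat.sub_self, if_pos (dvd_zero _), Nat.zero_div, hc0, pow_zero, Finset.sum_eq_zero, zero_add]
            intro j hj
            have := hjd j (Finset.mem_range.1 hj)
            have h6 : 0 < (D.d i) * (j + 1) := Nat.mul_pos hD (Nat.succ_pos j)
            rw [if_neg (by omega)]
          · rw [if_neg hm2, mul_zero, add_zero]
            by_cases hm3 : m < n
            · rw [hr0 m hm3]
              simp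
            · by_cases hdv : (D.d i) ∣ n + (D.d i) * d - m
              · obtain ⟨j, hj⟩ := hdv
                have hjpos : 0 < j := by
                  rcases Nat.eq_zero_or_pos j with h6 | h6
                  · rw [h6, mul_zero] at hj; omega
                  · exact h6
                have hjle : j ≤ d := by
                  have h6 : (D.d i) * j ≤ (D.d i) * d := by omega
                  exact Nat.le_of_mul_le_mul_left h6 hD
                have h7 := hjd (j - 1) (by omega)
                have h8 : j - 1 + 1 = j := by omega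
                rw [h8] at h7
                rw [hj, if_pos (dvd_mul_right _ _), Nat.mul_div_cancel_left _ hD, Finset.sum_eq_single (j - 1)]
                · rw [h8, if_pos (by omega)]
                · intro i' hi' hi''
                  have h9 := hjd i' (Finset.mem_range.1 hi')
                  rw [if_neg]
                  intro h10
                  have h11 : (D.d i) * (i' + 1) = (D.d i) * j := by omega
                  have := Nat.eq_of_mul_eq_mul_left hD h11
                  omega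
                · intro h6
                  exact absurd (Finset.mem_range.2 (by omega)) h6
              · rw [if_neg hdv, Finset.sum_eq_zero]
                intro j hj
                have h9 := hjd j (Finset.mem_range.1 hj)
                rw [if_neg]
                intro h10
                exact hdv ⟨j + 1, by omega⟩
      rw [Finset.sum_congr rfl h5, Finset.sum_add_distrib] at h4
      have h6 := add_eq_right.1 h4
      rw [Finset.sum_comm] at h6
      rw [← h6]
      show (∑ j ∈ range d, C (if n + (D.d i) * (d - (j + 1)) ≤ D.N then (r (n + (D.d i) * (d - (j + 1)))).coeff (j + 1) else 0) *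
        Polynomial.X ^ (j + 1) : k[X]).eval (algebraMap Fq k s) = _
      rw [eval_finsetSum]
      refine Finset.sum_congr rfl fun j hj => ?_
      rw [Finset.sum_ite_eq']
      simp only [eval_mul, eval_C, eval_pow, eval_X, Finset.mem_range]
      by_cases h7 : n + (D.d i) * (d - (j + 1)) ≤ D.N
      · rw [if_pos h7, if_pos (by omega)]
      · rw [if_neg h7, if_neg (by omega), zero_mul]
    -- too many roots
    have hP0 : P = 0 := by
      classical
      by_contra hne
      have hdeg : P.natDegree ≤ d := by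
        apply natDegree_sum_le_of_forall_le
        intro j hj
        rw [Finset.mem_range] at hj
        exact (natDegree_C_mul_X_pow_le _ _).trans (by omega)
      have hroots : (Finset.univ.image (algebraMap Fq k)) ⊆ P.roots.toFinset := by
        intro x hx
        obtain ⟨s, -, rfl⟩ := Finset.mem_image.1 hx
        rw [Multiset.mem_toFinset, mem_roots hne]
        exact hP s
      have hcard : (Finset.univ.image (algebraMap Fq k)).card = Fintype.card Fq := by
        rw [Finset.card_image_of_injective _ (algebraMap Fq k).injective, Finset.card_univ]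
      have h7 := Finset.card_le_card hroots
      have h8 := (Multiset.toFinset_card_le P.roots).trans (card_roots' P)
      omega
    have h8 := congrArg (fun P : k[X] => P.coeff d) hP0
    have h9 : P.coeff d = (r n).coeff d := by
      show (∑ j ∈ range d, C (if n + (D.d i) * (d - (j + 1)) ≤ D.N then (r (n + (D.d i) * (d - (j + 1)))).coeff (j + 1) else 0) *
        Polynomial.X ^ (j + 1) : k[X]).coeff d = _
      rw [finsetSum_coeff, Finset.sum_eq_single (d - 1)]
      · have e1 : d - 1 + 1 = d := by omega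
        have e2 : n + (D.d i) * (d - d) = n := by rw [Nat.sub_self, mul_zero, add_zero]
        rw [e1, e2, if_pos hn, coeff_C_mul, coeff_X_pow, if_pos rfl, mul_one]
      · intro j hj hj'
        rw [Finset.mem_range] at hj
        rw [coeff_C_mul, coeff_X_pow, if_neg (show ¬ d = j + 1 by omega), mul_zero]
      · intro h10
        exact absurd (Finset.mem_range.2 (by omega)) h10
    rw [D.X_apply (D.H_mem n hF) i d (hr n), ← h9]
    exact h8
  · have h0 : D.H n F = 0 := by
      funext g
      obtain ⟨P, hP, h⟩ := D.L_pol_δ hF g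
      rw [D.H_apply hF n h]
      exact coeff_eq_zero_of_natDegree_lt (by omega)
    rw [h0, map_zero]

theorem hom_c : D.Hom D.wt D.c := fun s g => D.c_δ g s

/-- **functions in `L` fixed by all `x i s`, `s ∈ F_q`, are multiples of `c`** -/
theorem fix_le {Fq : Type*} [Field Fq] [Fintype Fq] [Algebra Fq k] (hq : ∀ b, D.qq b ≤ Fintype.card Fq) {F : G → k}
    (hF : F ∈ D.L) (h1 : ∀ i (s : Fq) g, F (g * D.x i (algebraMap Fq k s)) = F g) : ∃ a : k, F = a • D.c := by
  -- the lowest component of a nonzero such function has degree `wt`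
  have key : ∀ {F : G → k}, F ∈ D.L → (∀ i (s : Fq) g, F (g * D.x i (algebraMap Fq k s)) = F g) → F ≠ 0 →
      ∃ n ≤ D.N, (∀ m < n, D.H m F = 0) ∧ D.H n F ≠ 0 ∧ (n : ℤ) - D.M = D.wt ∧ ∃ a : k, D.H n F = a • D.c := by
    classical
    intro F hF h1 h0
    have hex : ∃ n, D.H n F ≠ 0 := by
      by_contra hcon
      push Not at hcon
      apply h0
      rw [← D.sum_H hF]
      exact Finset.sum_eq_zero fun n _ => hcon n
    let n := Nat.find hex
    have hn : D.H n F ≠ 0 := Nat.find_spec hex
    have hlow : ∀ m < n, D.H m F = 0 := fun m hm => by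
      by_contra h; exact Nat.find_min hex hm h
    have hK := D.low hq hF h1 hlow
    obtain ⟨a, ha⟩ := D.K_le hK
    have hwt : (n : ℤ) - D.M = D.wt := by
      have h2 := D.hom_H n hF
      obtain ⟨m, hm, h3⟩ := D.hom_range (D.H_mem n hF) h2 hn
      by_contra hne
      -- `c` is homogeneous of degree `wt`
      have h4 : D.Hom D.wt (D.H n F) := by
        intro s g
        rw [ha, Pi.smul_apply, Pi.smul_apply, D.c_δ, smul_eq_mul, smul_eq_mul]
        ring
      have h5 := D.H_of_hom (D.H_mem n hF) h4 n hne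
      have h6 := D.H_self (D.H_mem n hF) h2 (by omega)
      rw [h5] at h6
      exact hn h6.symm
    obtain ⟨m, hm, h3⟩ := D.hom_range (D.H_mem n hF) (D.hom_H n hF) hn
    exact ⟨n, by omega, hlow, hn, hwt, a, ha⟩
  by_cases h0 : F = 0
  · exact ⟨0, by rw [h0, zero_smul]⟩
  obtain ⟨n, hnN, hlow, hn, hwt, a, ha⟩ := key hF h1 h0
  refine ⟨a, ?_⟩
  by_contra hne
  have hF' : F - a • D.c ∈ D.L := D.L.sub_mem hF (D.L.smul_mem _ D.c_mem)
  obtain ⟨n', hnN', hlow', hn', hwt', a', ha'⟩ := key hF'
    (fun i s g => by rw [Pi.sub_apply, Pi.sub_apply, Pi.smul_apply, Pi.smul_apply, h1, D.c_x])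
    (sub_ne_zero.2 hne)
  have : n' = n := by omega
  subst this
  apply hn'
  rw [map_sub, ← ha, D.H_self (D.H_mem _ hF) (D.hom_H _ hF) hnN, sub_self]

end DatR

end Cfsg.Agent.H203.UR
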